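import Cfsg.Agent.H405.Gs.Std
import Cfsg.Agent.H450.UF.Count

/-!
# The order of `TS B A` (helper405), S4327

* `card_norm` : the number of vectors of norm `1` of `A`;
* `dvd_card_TS` : `r ∣ |TS B A|` if `finrank A = r - 1`, `r` an odd prime;
* `ord_natural` : `Ord x (2 (r - 2)) r`.
-/

set_option autoImplicit false
set_option linter.unusedSectionVars false

namespace Cfsg.Agent.H405.Gs

open Cfsg Module Cfsg.Agent.LieClassical.HermBasic
open Cfsg.Agent.H91.U Cfsg.Agent.H450.UF Cfsg.Agent.H915.Gs Cfsg.Agent.H937.Gs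

variable {F V : Type*} [Field F] [AddCommGroup V] [Module F V] {σ : F →+* F} {B : V →ₛₗ[σ] V →ₗ[F] F}

/-- the restriction of the form -/
def rB (B : V →ₛₗ[σ] V →ₗ[F] F) (A : Submodule F V) : A →ₛₗ[σ] A →ₗ[F] F :=
  LinearMap.mk₂'ₛₗ σ (RingHom.id F) (fun x y => B x y) (fun x y z => by simp) (fun c x y => by simp)
    (fun x y z => by simp) (fun c x y => by simp)

theorem rB_apply (A : Submodule F V) (x y : A) : rB B A x y = B x y := rfl

theorem hform_rB (hB : HForm B) {A : Submodule F V} (hA : Nd B A) : HForm (rB B A) where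
  nd := by
    refine ⟨fun x h => ?_, fun y h => ?_⟩
    · exact Subtype.ext (hA x x.2 fun y hy => h ⟨y, hy⟩)
    · exact Subtype.ext (hA y y.2 fun x hx => hB.swap_zero (h ⟨x, hx⟩))
  symm := ⟨fun x y => hB.symm.eq x y⟩
  invol := hB.invol
  ne_id := hB.ne_id

theorem card_norm [Fintype F] [FiniteDimensional F V] {q : ℕ} (hF : Fintype.card F = q ^ 2) (hB : HForm B)
    {A : Submodule F V} (hA : Nd B A) {m : ℕ} (hm : finrank F A = m) :
    Nat.card {v : V // v ∈ A ∧ B v v = 1} =
      (if Even m then q ^ (m - 1) * (q ^ m - 1) else q ^ (m - 1) * (q ^ m + 1)) := by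
  subst hm
  obtain ⟨φ, hφ⟩ := exists_model hF (hform_rB hB hA)
  rw [← Cfsg.Agent.LieClassical.HermCount.card_norm_one hF]
  refine Nat.card_congr ?_
  refine (?_ : {v : V // v ∈ A ∧ B v v = 1} ≃ {v : A // rB B A v v = 1}).trans
    (Equiv.subtypeEquiv φ.toEquiv fun v => by rw [hφ]; rfl)
  exact
    { toFun := fun v => ⟨⟨v.1, v.2.1⟩, v.2.2⟩
      invFun := fun v => ⟨v.1.1, v.1.2, v.2⟩
      left_inv := fun _ => rfl
      right_inv := fun _ => rfl }

theorem card_dvd_TS [Fintype F] [FiniteDimensional F V] (hB : HForm B) {A : Submodule F V} (hT : Tr B A)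
    (hne : Nat.card {v : V // v ∈ A ∧ B v v = 1} ≠ 0) :
    Nat.card {v : V // v ∈ A ∧ B v v = 1} ∣ Nat.card (TS B A) := by
  obtain ⟨⟨b, hb, hbb⟩⟩ : Nonempty {v : V // v ∈ A ∧ B v v = 1} := by
    by_contra hcon
    rw [not_nonempty_iff] at hcon
    exact hne Nat.card_of_isEmpty
  have h1 : MulAction.orbit (TS B A) b = {v : V | v ∈ A ∧ B v v = 1} := by
    ext v
    constructor
    · rintro ⟨h, rfl⟩
      refine ⟨?_, ?_⟩
      · have h2 := A.add_mem (TS_sub h.2 b) hb
        rw [sub_add_cancel] at h2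
        exact h2
      · change B (h.1.1 b) (h.1.1 b) = 1
        rw [h.1.2.2, hbb]
    · rintro ⟨hv, hvv⟩
      obtain ⟨h, hh, hhb⟩ := hT b hb v hv (by rw [hbb]; exact one_ne_zero) (by rw [hvv, hbb])
      exact ⟨⟨h, hh⟩, hhb⟩
  have h2 := (MulAction.stabilizer (TS B A) b).index_dvd_card
  rw [MulAction.index_stabilizer, h1] at h2
  exact h2

theorem dvd_num {q r : ℕ} (hr : r.Prime) (h2 : r ≠ 2) :
    r ∣ (if Even (r - 1) then q ^ (r - 1 - 1) * (q ^ (r - 1) - 1) else q ^ (r - 1 - 1) * (q ^ (r - 1) + 1)) := by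
  have h3 : 3 ≤ r := by
    have := hr.two_le
    omega
  have hev : Even (r - 1) := by
    rcases hr.eq_two_or_odd' with h | h
    · exact absurd h h2
    · exact Nat.Odd.sub_odd h odd_one
  rw [if_pos hev]
  by_cases hq : r ∣ q
  · exact Dvd.dvd.mul_right (dvd_pow hq (by omega)) _
  · apply Dvd.dvd.mul_left
    have h4 : Nat.Coprime q r := ((Nat.Prime.coprime_iff_not_dvd hr).2 hq).symm
    have h5 := Nat.ModEq.pow_totient h4
    rw [Nat.totient_prime hr] at h5
    by_cases hq0 : q = 0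
    · subst hq0
      exact absurd (dvd_zero r) hq
    exact (Nat.modEq_iff_dvd' (Nat.one_le_pow _ _ (by omega))).1 h5.symm

/-- **`r` divides the order of the natural subgroup of dimension `r - 1`** -/
theorem dvd_card_TS [Fintype F] [FiniteDimensional F V] {q : ℕ} (hF : Fintype.card F = q ^ 2) (hB : HForm B)
    {A : Submodule F V} (hA : Nd B A) (hT : Tr B A) {r : ℕ} (hr : r.Prime) (h2 : r ≠ 2) (hAr : finrank F A = r - 1) :
    r ∣ Nat.card (TS B A) := by
  have hq := two_le hF
  have h1 := card_norm hF hB hA hAr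
  have h3 : 3 ≤ r := by
    have := hr.two_le
    omega
  refine (dvd_num (q := q) hr h2).trans ?_
  rw [← h1]
  apply card_dvd_TS hB hT
  rw [h1]
  have h4 : 1 < q ^ (r - 1) := Nat.one_lt_pow (by omega) (by omega)
  split_ifs
  · exact mul_ne_zero (pow_ne_zero _ (by omega)) (by omega)
  · exact mul_ne_zero (pow_ne_zero _ (by omega)) (by omega)

section

variable {L : Type*} [Group L] [Finite L]

/-- **item (3)** -/
theorem ord_natural [Fintype F] [FiniteDimensional F V] {q : ℕ} (hF : Fintype.card F = q ^ 2) (hB : HForm B)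
    {π : SIso B →* L} (hπ : Function.Surjective π) (hker : ∀ g, π g = 1 → ∃ s : F, ∀ v, g.1 v = s • v)
    (hinj : Function.Injective (MulAut.conj : L →* MulAut L)) {a : MulAut (SIso B)} {x : MulAut L}
    (hx : ∀ g, π (a g) = x (π g)) {A : Submodule F V} (hA : Nd B A) (hT : Tr B A) {r : ℕ} (hr : r.Prime)
    (h2 : r ≠ 2) (hAr : finrank F A = r - 1) (hAV : finrank F A < finrank F V) {k : ℕ} (hk : 1 ≤ k)
    (h : Reach a k (TS B A)) (hkr : k ≤ 2 * (r - 2)) : Ord x (2 * (r - 2)) r := by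
  refine Ord.mono hk hkr ((h.transfer hπ hx).ord hinj ?_)
  have h1 : Nat.card ((TS B A).map π) = Nat.card (TS B A) := by
    refine (Nat.card_congr (Equiv.ofBijective (fun g : TS B A => (⟨π g.1, ⟨g.1, g.2, rfl⟩⟩ : (TS B A).map π))
      ⟨?_, ?_⟩)).symm
    · intro g g' hgg
      have h3 : π (g.1⁻¹ * g'.1) = 1 := by
        have h8 : π g.1 = π g'.1 := congrArg Subtype.val hgg
        rw [map_mul, map_inv, h8, inv_mul_cancel]
      obtain ⟨s, hs⟩ := hker _ h3
      obtain ⟨c, hc, hcc⟩ := exists_c hB hA (by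
        rintro rfl
        rw [finrank_top] at hAV
        omega)
      have hmem : g.1⁻¹ * g'.1 ∈ TS B A := mul_mem (inv_mem g.2) g'.2
      have h4 := TS_fix hmem hc
      rw [hs] at h4
      have h5 : s = 1 := by
        have h6 : (s - 1) • c = 0 := by rw [sub_smul, h4, one_smul, sub_self]
        have hc0 : c ≠ 0 := by
          rintro rfl
          rw [map_zero] at hcc
          exact hcc rfl
        exact sub_eq_zero.1 ((smul_eq_zero.1 h6).resolve_right hc0)
      have h7 : g.1⁻¹ * g'.1 = 1 := by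
        apply Subtype.ext
        apply LinearEquiv.ext
        intro v
        rw [hs, h5, one_smul]
        rfl
      exact Subtype.ext (inv_mul_eq_one.1 h7)
    · rintro ⟨_, g, hg, rfl⟩
      exact ⟨⟨g, hg⟩, rfl⟩
  rw [h1]
  exact dvd_card_TS hF hB hA hT hr h2 hAr

end

end Cfsg.Agent.H405.Gs
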