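import Cfsg.Agent.H915.Gs.Chain
import Cfsg.Agent.H450.UF.Base

/-!
# Chains of transvection groups in special unitary groups (helper405), S4327

`B : V →ₛₗ[σ] V →ₗ[F] F` a nondegenerate Hermitian form, `Γ = SIso B`.

* `IsTv u g` : `g` is a transvection with centre `u` (or `1`);
* `TS B A` : the group generated by the transvections with centre in `A`;
* `norm_trans` : `TS B A` is transitive on the vectors of a given nonzero norm of `A` (`A` nondegenerate, `q ≥ 3`);
* `mem_TS` : `TS B A` contains every element of `SIso B` which fixes `A^⊥` pointwise;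
* `exists_chain` : chains for the natural subgroups.
-/

set_option autoImplicit false
set_option linter.unusedSectionVars false

namespace Cfsg.Agent.H405.Gs

open Cfsg.Agent.H91.U Cfsg.Agent.H450.UF Cfsg.Agent.H915.Gs
open Cfsg.Agent.ClassicalGeometry.HermWitt (norm_surj exists_apply_self_ne_zero exists_perp exists_unit_perp)
open Module

variable {F V : Type*} [Field F] [AddCommGroup V] [Module F V] {σ : F →+* F} {B : V →ₛₗ[σ] V →ₗ[F] F}

/-- `g` is a transvection with centre `u`, or the identity -/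
def IsTv (u : V) (g : SIso B) : Prop := B u u = 0 ∧ ∃ c : F, ∀ x, g.1 x = x + (c * B u x) • u

variable (B) in
/-- the group generated by the transvections with centre in `A` -/
def TS (A : Submodule F V) : Subgroup (SIso B) := Subgroup.closure {g | ∃ u ∈ A, IsTv u g}

theorem IsTv.mem {A : Submodule F V} {u : V} (hu : u ∈ A) {g : SIso B} (h : IsTv u g) : g ∈ TS B A :=
  Subgroup.subset_closure ⟨u, hu, h⟩

theorem TS_mono {A A' : Submodule F V} (h : A ≤ A') : TS B A ≤ TS B A' :=
  Subgroup.closure_mono fun _ ⟨u, hu, hg⟩ => ⟨u, h hu, hg⟩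

theorem mul_val (g h : SIso B) (x : V) : (g * h).1 x = g.1 (h.1 x) := rfl

theorem inv_val (g : SIso B) (x : V) : g.1 (g⁻¹.1 x) = x := by
  rw [← mul_val, mul_inv_cancel]; rfl

theorem inv_val' (g : SIso B) (x : V) : g⁻¹.1 (g.1 x) = x := by
  rw [← mul_val, inv_mul_cancel]; rfl

theorem IsTv.conj {u : V} {g : SIso B} (h : IsTv u g) (k : SIso B) : IsTv (k.1 u) (k * g * k⁻¹) := by
  obtain ⟨h0, c, hc⟩ := h
  refine ⟨by rw [k.2.2, h0], c, fun x => ?_⟩
  rw [mul_val, mul_val, hc, map_add, map_smul, inv_val]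
  congr 3
  rw [← k.2.2 u, inv_val]

theorem IsTv.smul {u : V} {g : SIso B} (h : IsTv u g) {a : F} (ha : a ≠ 0) : IsTv (a • u) g := by
  obtain ⟨h0, c, hc⟩ := h
  refine ⟨by rw [smul_left, smul_right, h0, mul_zero, mul_zero], c * (σ a)⁻¹ * a⁻¹, fun x => ?_⟩
  have hsa := sig_ne_zero (σ := σ) ha
  rw [hc, smul_left, smul_smul]
  congr 2
  field_simp

theorem cj_TS (k : SIso B) (A : Submodule F V) : cj k (TS B A) = TS B (A.map (k.1 : V →ₗ[F] V)) := by
  unfold TS cj
  rw [MonoidHom.map_closure]
  congr 1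
  ext g
  constructor
  · rintro ⟨g', ⟨u, hu, hg⟩, rfl⟩
    exact ⟨k.1 u, ⟨u, hu, rfl⟩, hg.conj k⟩
  · rintro ⟨_, ⟨u, hu, rfl⟩, hg⟩
    refine ⟨k⁻¹ * g * k, ⟨u, hu, ?_⟩, ?_⟩
    · have h := hg.conj k⁻¹
      rw [inv_inv] at h
      have e : k⁻¹.1 ((k.1 : V →ₗ[F] V) u) = u := inv_val' k u
      rwa [e] at h
    · simp only [MulEquiv.coe_toMonoidHom, MulAut.conj_apply]
      group

/-- elements of `TS B A` fix the vectors orthogonal to `A` -/
theorem TS_fix {A : Submodule F V} {h : SIso B} (hh : h ∈ TS B A) {x : V} (hx : ∀ y ∈ A, B y x = 0) : h.1 x = x := by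
  have h1 : TS B A ≤ (MulAction.stabilizer (SIso B) x) := by
    unfold TS
    rw [Subgroup.closure_le]
    rintro g ⟨u, hu, -, c, hc⟩
    show g.1 x = x
    rw [hc, hx u hu, mul_zero, zero_smul, add_zero]
  exact h1 hh

/-- elements of `TS B A` move vectors by elements of `A` -/
theorem TS_sub {A : Submodule F V} {h : SIso B} (hh : h ∈ TS B A) (x : V) : h.1 x - x ∈ A := by
  revert x
  induction hh using Subgroup.closure_induction with
  | mem g hg =>
    obtain ⟨u, hu, -, c, hc⟩ := hg
    intro x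
    rw [hc, add_sub_cancel_left]
    exact A.smul_mem _ hu
  | one => intro x; rw [show (1 : SIso B).1 x = x from rfl, sub_self]; exact A.zero_mem
  | mul g g' _ _ ih ih' =>
    intro x
    have : (g * g').1 x - x = (g.1 (g'.1 x) - g'.1 x) + (g'.1 x - x) := by rw [mul_val]; abel
    rw [this]
    exact A.add_mem (ih _) (ih' _)
  | inv g _ ih =>
    intro x
    have : g⁻¹.1 x - x = -(g.1 (g⁻¹.1 x) - g⁻¹.1 x) := by rw [inv_val]; abel
    rw [this]
    exact A.neg_mem (ih _)

variable [FiniteDimensional F V]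

theorem exists_tv (hB : HForm B) {e : V} (he : B e e = 0) {c : F} (hc : c + σ c = 0) :
    ∃ g : SIso B, (∀ x, g.1 x = x + (c * B e x) • e) := by
  let T1 : V →ₗ[F] V := LinearMap.transvection (c • B e) e
  have h1 : ∀ x, T1 x = x + (c * B e x) • e := fun x => by
    rw [LinearMap.transvection.apply]; rfl
  have hdet : LinearMap.det T1 = 1 := by
    rw [LinearMap.transvection.det, LinearMap.smul_apply, he, smul_zero, add_zero]
  have hunit : IsUnit (LinearMap.det T1) := by
    rw [hdet]
    exact isUnit_one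
  let g : V ≃ₗ[F] V := LinearEquiv.ofIsUnitDet (f := T1) (v := Module.finBasis F V) (v' := Module.finBasis F V) (by
    rw [LinearMap.det_toMatrix]
    exact hunit)
  have hg : ∀ x, g x = x + (c * B e x) • e := h1
  have hgT : (g : V →ₗ[F] V) = T1 := LinearMap.ext hg
  refine ⟨⟨g, ?_, ?_⟩, hg⟩
  · apply Units.ext
    rw [LinearEquiv.coe_det, hgT, hdet]
    rfl
  · intro x y
    rw [hg, hg]
    simp only [map_add, LinearMap.add_apply, smul_left, smul_right, he, map_mul, ← sw hB x e]
    rw [sw hB e x] at *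
    linear_combination (σ (B e x) * B e y) * hc

/-- transitivity relation -/
def R (H : Subgroup (SIso B)) (x y : V) : Prop := ∃ h ∈ H, h.1 x = y

theorem R.trans {H : Subgroup (SIso B)} {x y z : V} (h : R H x y) (h' : R H y z) : R H x z := by
  obtain ⟨g, hg, rfl⟩ := h
  obtain ⟨g', hg', rfl⟩ := h'
  exact ⟨g' * g, mul_mem hg' hg, rfl⟩

theorem R.symm {H : Subgroup (SIso B)} {x y : V} (h : R H x y) : R H y x := by
  obtain ⟨g, hg, rfl⟩ := h
  exact ⟨g⁻¹, inv_mem hg, inv_val' g x⟩

theorem R.mono {H H' : Subgroup (SIso B)} (hH : H ≤ H') {x y : V} (h : R H x y) : R H' x y := by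
  obtain ⟨g, hg, rfl⟩ := h
  exact ⟨g, hH hg, rfl⟩

section plane

variable (hB : HForm B) {e f : V} (he : B e e = 0) (hf : B f f = 0) (hef : B e f = 1)

include hB he hef in
theorem step_e {A : Submodule F V} (heA : e ∈ A) {α α' β : F} (hβ : β ≠ 0)
    (h : σ α * β + σ β * α = σ α' * β + σ β * α') : R (TS B A) (α • e + β • f) (α' • e + β • f) := by
  have hsb := sig_ne_zero (σ := σ) hβ
  obtain ⟨g, hg⟩ := exists_tv hB he (c := (α' - α) / β) (by
    rw [map_div₀, map_sub]
    field_simp
    linear_combination -h)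
  refine ⟨g, IsTv.mem heA ⟨he, _, hg⟩, ?_⟩
  rw [hg, map_add, smul_right, smul_right, he, hef, mul_zero, zero_add, mul_one, div_mul_cancel₀ _ hβ, sub_smul]
  abel

include hB hf hef in
theorem step_f {A : Submodule F V} (hfA : f ∈ A) {α β β' : F} (hα : α ≠ 0)
    (h : σ α * β + σ β * α = σ α * β' + σ β' * α) : R (TS B A) (α • e + β • f) (α • e + β' • f) := by
  have hfe : B f e = 1 := by rw [sw hB e f, hef, map_one]
  have h1 := step_e hB hf hfe hfA (α := β) (α' := β') (β := α) hα (by linear_combination h)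
  rwa [add_comm (β • f), add_comm (β' • f)] at h1

include hB he hf hef in
theorem cross {A : Submodule F V} (heA : e ∈ A) (hfA : f ∈ A) {α β α' β' ν : F} (hν : ν ≠ 0)
    (hσν : σ ν = ν) (h : σ α * β + σ β * α = ν) (h' : σ α' * β' + σ β' * α' = ν)
    (hD : β' * σ β - β * σ β' ≠ 0) : R (TS B A) (α • e + β • f) (α' • e + β' • f) := by
  have hβ : β ≠ 0 := by
    rintro rfl
    apply hν
    rw [← h]
    simp
  have hβ' : β' ≠ 0 := by
    rintro rfl
    apply hν
    rw [← h']
    simp
  set D := β' * σ β - β * σ β' with hDdef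
  have hσD : σ D = -D := by
    rw [hDdef, map_sub, map_mul, map_mul, hB.invol, hB.invol]
    ring
  set α1 := ν * (β' - β) / D with hα1
  have hσα : σ α1 = -(ν * (σ β' - σ β)) / D := by
    rw [hα1, map_div₀, map_mul, map_sub, hσν, hσD, div_neg, neg_div]
  have e1 : σ α1 * β + σ β * α1 = ν := by
    rw [hσα, hα1]
    field_simp
    rw [hDdef]
    ring
  have e2 : σ α1 * β' + σ β' * α1 = ν := by
    rw [hσα, hα1]
    field_simp
    rw [hDdef]
    ring
  have h10 : α1 ≠ 0 := by
    intro h0
    apply hν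
    rw [← e1, h0]
    simp
  exact ((step_e hB he hef heA hβ (h.trans e1.symm)).trans (step_f hB hf hef hfA h10 (e1.trans e2.symm))).trans
    (step_e hB he hef heA hβ' (e2.trans h'.symm))

include hB he hf hef in
theorem plane_coord {A : Submodule F V} (heA : e ∈ A) (hfA : f ∈ A) {α β α' β' ν : F} (hν : ν ≠ 0)
    (hσν : σ ν = ν) (h : σ α * β + σ β * α = ν) (h' : σ α' * β' + σ β' * α' = ν) :
    R (TS B A) (α • e + β • f) (α' • e + β' • f) := by
  by_cases hD : β' * σ β - β * σ β' = 0
  · have hβ : β ≠ 0 := by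
      rintro rfl
      apply hν
      rw [← h]
      simp
    have hβ' : β' ≠ 0 := by
      rintro rfl
      apply hν
      rw [← h']
      simp
    obtain ⟨θ, hθ⟩ : ∃ θ : F, σ θ ≠ θ := by
      by_contra hcon
      push Not at hcon
      exact hB.ne_id (RingHom.ext hcon)
    have hθ0 : θ ≠ 0 := by
      rintro rfl
      exact hθ (map_zero σ)
    have hsb := sig_ne_zero (σ := σ) hβ
    have hsθ := sig_ne_zero (σ := σ) hθ0
    obtain ⟨t, ht⟩ := exists_trace hB hσν
    -- `α1` with norm `ν` for `β1 = θ β`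
    have h1 : σ (σ t / (σ θ * σ β)) * (θ * β) + σ (θ * β) * (σ t / (σ θ * σ β)) = ν := by
      rw [map_div₀, map_mul, hB.invol, hB.invol, hB.invol, map_mul]
      field_simp
      linear_combination ht
    have hD1 : (θ * β) * σ β - β * σ (θ * β) ≠ 0 := by
      rw [map_mul]
      have : θ * β * σ β - β * (σ θ * σ β) = (θ - σ θ) * (β * σ β) := by ring
      rw [this]
      exact mul_ne_zero (sub_ne_zero.2 hθ.symm) (mul_ne_zero hβ hsb)
    have hD2 : β' * σ (θ * β) - (θ * β) * σ β' ≠ 0 := by
      rw [map_mul]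
      have : β' * (σ θ * σ β) - θ * β * σ β' = (σ θ - θ) * (β' * σ β) := by
        linear_combination θ * hD
      rw [this]
      exact mul_ne_zero (sub_ne_zero.2 hθ) (mul_ne_zero hβ' hsb)
    exact (cross hB he hf hef heA hfA hν hσν h h1 hD1).trans (cross hB he hf hef heA hfA hν hσν h1 h' hD2)
  · exact cross hB he hf hef heA hfA hν hσν h h' hD

end plane

section Trans

variable [Finite F] (hB : HForm B)

include hB

/-- the plane spanned by two orthogonal anisotropic vectors -/
theorem plane_orth {A : Submodule F V} {b d : V} (hbA : b ∈ A) (hdA : d ∈ A) (hb : B b b ≠ 0) (hd : B d d ≠ 0)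
    (hbd : B b d = 0) {x y : F} (h : B (x • b + y • d) (x • b + y • d) = B b b) :
    R (TS B A) b (x • b + y • d) := by
  set ν := B b b with hν
  have hσν : σ ν = ν := self_fix hB b
  have hσd : σ (B d d) = B d d := self_fix hB d
  obtain ⟨l, hl0, hl⟩ := norm_surj σ hB.ne_id hB.invol (-ν / B d d) (by
    rw [map_div₀, map_neg, hσν, hσd]) (div_ne_zero (neg_ne_zero.2 hb) hd)
  have hdb : B d b = 0 := hB.swap_zero hbd
  obtain ⟨e, he'⟩ : ∃ e, e = b + l • d := ⟨_, rfl⟩
  have heA : e ∈ A := by rw [he']; exact A.add_mem hbA (A.smul_mem _ hdA)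
  have he : B e e = 0 := by
    rw [he']
    simp only [map_add, LinearMap.add_apply, smul_left, smul_right, hbd, hdb, mul_zero, add_zero, zero_add, ← hν]
    have : l * (σ l * B d d) = (l * σ l) * B d d := by ring
    rw [this, hl, div_mul_cancel₀ _ hd]
    ring
  have heb : B e b = ν := by
    rw [he', map_add, LinearMap.add_apply, smul_left, hdb, mul_zero, add_zero]
  have heb' : B e (ν⁻¹ • b) = 1 := by rw [smul_right, heb, inv_mul_cancel₀ hb]
  obtain ⟨c, hc⟩ := exists_iso hB he heb'
  obtain ⟨f, hf'⟩ : ∃ f, f = ν⁻¹ • b + c • e := ⟨_, rfl⟩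
  rw [← hf'] at hc
  have hfA : f ∈ A := by rw [hf']; exact A.add_mem (A.smul_mem _ hbA) (A.smul_mem _ heA)
  have hef : B e f = 1 := by rw [hf', map_add, heb', smul_right, he, mul_zero, add_zero]
  have hfe : B f e = 1 := by rw [sw hB e f, hef, map_one]
  -- coordinates
  have hb1 : b = (-(ν * c)) • e + ν • f := by
    rw [hf', smul_add, smul_smul, mul_inv_cancel₀ hb, one_smul, smul_smul, neg_smul]
    abel
  have hd1 : d = l⁻¹ • e - l⁻¹ • b := by
    rw [he', smul_add, smul_smul, inv_mul_cancel₀ hl0, one_smul]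
    abel
  have hxy : x • b + y • d = (y * l⁻¹ - (x - y * l⁻¹) * (ν * c)) • e + ((x - y * l⁻¹) * ν) • f := by
    have e1 : x • b + y • d = (y * l⁻¹) • e + (x - y * l⁻¹) • b := by
      rw [hd1, smul_sub, smul_smul, smul_smul, sub_smul]
      abel
    rw [e1]
    nth_rewrite 1 [hb1]
    rw [smul_add, smul_smul, smul_smul, ← add_assoc, ← add_smul]
    congr 2
    ring
  have hnorm : ∀ α β : F, B (α • e + β • f) (α • e + β • f) = σ α * β + σ β * α := by
    intro α β
    simp only [map_add, LinearMap.add_apply, smul_left, smul_right, he, hc, hef, hfe]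
    ring
  rw [hxy] at h ⊢
  have h0 : B b b = σ (-(ν * c)) * ν + σ ν * (-(ν * c)) := by
    nth_rewrite 1 [hb1]
    nth_rewrite 1 [hb1]
    exact hnorm _ _
  rw [hnorm] at h
  have key := plane_coord hB he hc hef heA hfA (ν := ν) hb hσν h0.symm h
  rwa [← hb1] at key

/-- the generic case of transitivity -/
theorem norm_trans_nd {A : Submodule F V} {b b' : V} (hbA : b ∈ A) (hb'A : b' ∈ A) (hb : B b b ≠ 0)
    (hbb : B b' b' = B b b) (hN : B b b' * σ (B b b') ≠ B b b * B b b) : R (TS B A) b b' := by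
  set ν := B b b with hν
  have hσν : σ ν = ν := self_fix hB b
  set α := B b b' / ν with hα
  have hαν : α * ν = B b b' := div_mul_cancel₀ _ hb
  have hb'b : B b' b = σ α * ν := by rw [sw hB b b', ← hαν, map_mul, hσν]
  obtain ⟨d, hd⟩ : ∃ d, d = b' - α • b := ⟨_, rfl⟩
  have hdA : d ∈ A := by rw [hd]; exact A.sub_mem hb'A (A.smul_mem _ hbA)
  have hbd : B b d = 0 := by rw [hd, map_sub, smul_right, ← hν, ← hαν]; ring
  have hdd : B d d ≠ 0 := by
    intro h0
    apply hN
    have h1 : B d d = ν - α * σ α * ν := by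
      rw [hd]
      simp only [map_sub, LinearMap.sub_apply, smul_left, smul_right, hbb, hb'b, ← hν, ← hαν]
      ring
    rw [h0] at h1
    rw [← hαν, map_mul, hσν]
    linear_combination ν * h1
  have h1 : b' = α • b + (1 : F) • d := by rw [hd, one_smul]; abel
  rw [h1]
  apply plane_orth hB hbA hdA hb hdd hbd
  rw [← h1, hbb]

/-- **transitivity on vectors of nonzero norm** -/
theorem norm_trans (hq : ∃ s : F, σ s = s ∧ s ≠ 0 ∧ s ≠ 1) {A : Submodule F V}
    (hA : ∀ x ∈ A, (∀ y ∈ A, B x y = 0) → x = 0) {b b' : V} (hbA : b ∈ A) (hb'A : b' ∈ A) (hb : B b b ≠ 0)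
    (hbb : B b' b' = B b b) (h2 : ∃ x ∈ A, x ≠ 0 ∧ B b x = 0) : R (TS B A) b b' := by
  by_cases hN : B b b' * σ (B b b') ≠ B b b * B b b
  · exact norm_trans_nd hB hbA hb'A hb hbb hN
  push Not at hN
  set ν := B b b with hν
  have hσν : σ ν = ν := self_fix hB b
  set α := B b b' / ν with hα
  have hαν : α * ν = B b b' := div_mul_cancel₀ _ hb
  have hb'b : B b' b = σ α * ν := by rw [sw hB b b', ← hαν, map_mul, hσν]
  obtain ⟨d, hd⟩ : ∃ d, d = b' - α • b := ⟨_, rfl⟩
  have hdA : d ∈ A := by rw [hd]; exact A.sub_mem hb'A (A.smul_mem _ hbA)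
  have hbd : B b d = 0 := by rw [hd, map_sub, smul_right, ← hν, ← hαν]; ring
  have hdb : B d b = 0 := hB.swap_zero hbd
  have h1 : b' = α • b + (1 : F) • d := by rw [hd, one_smul]; abel
  -- orthogonal projection away from `b`
  have hproj : ∀ y ∈ A, ∀ z, B z b = 0 → (y - (B b y / ν) • b) ∈ A ∧ B b (y - (B b y / ν) • b) = 0 ∧
      B z (y - (B b y / ν) • b) = B z y := by
    intro y hy z hz
    refine ⟨A.sub_mem hy (A.smul_mem _ hbA), ?_, ?_⟩
    · rw [map_sub, smul_right, ← hν, div_mul_cancel₀ _ hb, sub_self]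
    · rw [map_sub, smul_right, hz, mul_zero, sub_zero]
  by_cases hd0 : d = 0
  · -- `b'` is a multiple of `b`
    obtain ⟨x, hxA, hx0, hbx⟩ := h2
    obtain ⟨y, hyA, hxy⟩ : ∃ y ∈ A, B x y ≠ 0 := by
      by_contra hcon
      push Not at hcon
      exact hx0 (hA x hxA hcon)
    have hxb : B x b = 0 := hB.swap_zero hbx
    obtain ⟨h3, h4, h5⟩ := hproj y hyA x hxb
    let W : Submodule F V := A ⊓ LinearMap.ker (B b)
    obtain ⟨e0, he0, he0'⟩ := exists_apply_self_ne_zero σ B hB.ne_id hB.symm W
      ⟨x, ⟨hxA, hbx⟩, _, ⟨h3, h4⟩, by rw [h5]; exact hxy⟩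
    have h6 : b' = α • b + (0 : F) • e0 := by rw [zero_smul, add_zero, h1, hd0, smul_zero, add_zero]
    rw [h6]
    apply plane_orth hB hbA he0.1 hb he0' he0.2
    rw [← h6, hbb]
  · -- `d` is isotropic and nonzero
    have hdd : B d d = 0 := by
      have h3 : B d d = ν - α * σ α * ν := by
        rw [hd]
        simp only [map_sub, LinearMap.sub_apply, smul_left, smul_right, hbb, hb'b, ← hν, ← hαν]
        ring
      have h4 : ν * B d d = 0 := by
        rw [h3]
        rw [← hαν, map_mul, hσν] at hN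
        linear_combination -hN
      exact (mul_eq_zero.1 h4).resolve_left hb
    obtain ⟨y, hyA, hdy⟩ : ∃ y ∈ A, B d y ≠ 0 := by
      by_contra hcon
      push Not at hcon
      exact hd0 (hA d hdA hcon)
    obtain ⟨h3, h4, h5⟩ := hproj y hyA d hdb
    obtain ⟨y1, hy1⟩ : ∃ y1, y1 = (B d y)⁻¹ • (y - (B b y / ν) • b) := ⟨_, rfl⟩
    have hy1A : y1 ∈ A := by rw [hy1]; exact A.smul_mem _ h3
    have hby1 : B b y1 = 0 := by rw [hy1, smul_right, h4, mul_zero]
    have hdy1 : B d y1 = 1 := by rw [hy1, smul_right, h5, inv_mul_cancel₀ hdy]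
    obtain ⟨c, hc⟩ := exists_iso hB hdd hdy1
    obtain ⟨f, hf⟩ : ∃ f, f = y1 + c • d := ⟨_, rfl⟩
    rw [← hf] at hc
    have hfA : f ∈ A := by rw [hf]; exact A.add_mem hy1A (A.smul_mem _ hdA)
    have hbf : B b f = 0 := by rw [hf, map_add, smul_right, hby1, hbd, mul_zero, add_zero]
    have hdf : B d f = 1 := by rw [hf, map_add, smul_right, hdy1, hdd, mul_zero, add_zero]
    have hfd : B f d = 1 := by rw [sw hB d f, hdf, map_one]
    have hfb : B f b = 0 := hB.swap_zero hbf
    obtain ⟨s, hσs, hs0, hs1⟩ := hq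
    obtain ⟨δ, hδ0, hδ⟩ := norm_surj σ hB.ne_id hB.invol (s * (ν * ν)) (by
      rw [map_mul, map_mul, hσs, hσν]) (mul_ne_zero hs0 (mul_ne_zero hb hb))
    have hsδ := sig_ne_zero (σ := σ) hδ0
    obtain ⟨t, ht⟩ := exists_trace hB hσν
    obtain ⟨b2, hb2⟩ : ∃ b2, b2 = (σ t / σ δ) • d + δ • f := ⟨_, rfl⟩
    have hb2A : b2 ∈ A := by rw [hb2]; exact A.add_mem (A.smul_mem _ hdA) (A.smul_mem _ hfA)
    have hb2b2 : B b2 b2 = ν := by
      rw [hb2]
      simp only [map_add, LinearMap.add_apply, smul_left, smul_right, hdd, hc, hdf, hfd, map_div₀, hB.invol]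
      field_simp
      linear_combination (σ δ * δ) * ht
    have hbb2 : B b b2 = 0 := by
      rw [hb2, map_add, smul_right, smul_right, hbd, hbf, mul_zero, mul_zero, add_zero]
    have hb2b' : B b2 b' = σ δ := by
      rw [h1, hb2]
      simp only [map_add, LinearMap.add_apply, smul_left, smul_right, hdb, hfb, hdd, hfd]
      ring
    have k1 : R (TS B A) b b2 := by
      have h6 : b2 = (0 : F) • b + (1 : F) • b2 := by rw [zero_smul, one_smul, zero_add]
      rw [h6]
      refine plane_orth hB hbA hb2A hb (by rw [hb2b2]; exact hb) hbb2 ?_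
      rw [← h6, hb2b2]
    have k2 : R (TS B A) b2 b' := by
      refine norm_trans_nd hB hb2A hb'A (by rw [hb2b2]; exact hb) (by rw [hbb, hb2b2]) ?_
      rw [hb2b', hB.invol, hb2b2]
      intro h7
      apply hs1
      have h8 : s * (ν * ν) = 1 * (ν * ν) := by
        rw [← hδ]
        linear_combination h7
      exact mul_right_cancel₀ (mul_ne_zero hb hb) h8
    exact k1.trans k2

/-- **`TS B A` contains every element which fixes the orthogonal complement** -/
theorem mem_TS (hq : ∃ s : F, σ s = s ∧ s ≠ 0 ∧ s ≠ 1) (n : ℕ) : ∀ (A : Submodule F V), finrank F A = n →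
    (∀ x ∈ A, (∀ y ∈ A, B x y = 0) → x = 0) → ∀ h : SIso B, (∀ x, (∀ y ∈ A, B y x = 0) → h.1 x = x) →
    h ∈ TS B A := by
  induction n using Nat.strong_induction_on with
  | _ n ih =>
    intro A hn hA h hh
    by_cases hbot : A = ⊥
    · have h1 : h = 1 := by
        apply Subtype.ext
        apply LinearEquiv.ext
        intro x
        apply hh
        intro y hy
        rw [hbot, Submodule.mem_bot] at hy
        rw [hy, map_zero, LinearMap.zero_apply]
      rw [h1]
      exact one_mem _
    obtain ⟨x0, hx0A, hx00⟩ := (Submodule.ne_bot_iff A).1 hbot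
    obtain ⟨y0, hy0A, hxy0⟩ : ∃ y ∈ A, B x0 y ≠ 0 := by
      by_contra hcon
      push Not at hcon
      exact hx00 (hA x0 hx0A hcon)
    obtain ⟨b, hbA, hb⟩ := exists_apply_self_ne_zero σ B hB.ne_id hB.symm A ⟨x0, hx0A, y0, hy0A, hxy0⟩
    set ν := B b b with hν
    have hσν : σ ν = ν := self_fix hB b
    -- `h b ∈ A`
    have hhA : ∀ z ∈ A, h.1 z ∈ A := by
      intro z hz
      obtain ⟨x, hx, hx'⟩ := exists_perp σ B A hA (h.1 z)
      have h1 : h.1 z - x = 0 := by
        apply hB.eq_zero
        intro y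
        obtain ⟨w, hw, hw'⟩ := exists_perp σ B A hA y
        have h2 : B (h.1 z - x) w = 0 := hx' w hw
        have h3 : ∀ v ∈ A, B v (y - w) = 0 := fun v hv => hB.swap_zero (hw' v hv)
        have h4 : h.1 (y - w) = y - w := hh _ h3
        have h5 : B (h.1 z - x) (y - w) = 0 := by
          rw [show B (h.1 z - x) = B (h.1 z) - B x from map_sub B _ _, LinearMap.sub_apply, h3 x hx, sub_zero, ← h4,
            h.2.2, h3 z hz]
        have h6 : y = w + (y - w) := by abel
        rw [h6, map_add, h2, h5, add_zero]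
      rw [sub_eq_zero.1 h1]
      exact hx
    by_cases h2 : ∃ x ∈ A, x ≠ 0 ∧ B b x = 0
    · obtain ⟨t, htA, htb⟩ := norm_trans hB hq hA hbA (hhA b hbA) hb (by rw [h.2.2]) h2
      let A' : Submodule F V := A ⊓ LinearMap.ker (B b)
      have hA'lt : A' < A := by
        refine lt_of_le_of_ne inf_le_left ?_
        intro heq
        have : b ∈ A' := by rw [heq]; exact hbA
        exact hb this.2
      have hproj : ∀ y ∈ A, (y - (B b y / ν) • b) ∈ A' := by
        intro y hy
        refine ⟨A.sub_mem hy (A.smul_mem _ hbA), ?_⟩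
        show B b (y - (B b y / ν) • b) = 0
        rw [map_sub, smul_right, ← hν, div_mul_cancel₀ _ hb, sub_self]
      have hA' : ∀ x ∈ A', (∀ y ∈ A', B x y = 0) → x = 0 := by
        intro x hx hx'
        apply hA x hx.1
        intro y hy
        have hxb : B x b = 0 := hB.swap_zero hx.2
        have h5 : y = (y - (B b y / ν) • b) + (B b y / ν) • b := by abel
        rw [h5, map_add, hx' _ (hproj y hy), smul_right, hxb, mul_zero, add_zero]
      have key : t⁻¹ * h ∈ TS B A' := by
        refine ih _ ?_ A' rfl hA' _ ?_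
        · rw [← hn]
          exact Submodule.finrank_lt_finrank_of_lt hA'lt
        · intro x hx
          -- decompose
          have h6 : ∀ y ∈ A, B y (x - (B b x / ν) • b) = 0 := by
            intro y hy
            have h7 : B b (x - (B b x / ν) • b) = 0 := by
              rw [map_sub, smul_right, ← hν, div_mul_cancel₀ _ hb, sub_self]
            have h8 : y = (y - (B b y / ν) • b) + (B b y / ν) • b := by abel
            rw [h8, map_add, LinearMap.add_apply, smul_left, h7, mul_zero, add_zero, map_sub,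
              hx _ (hproj y hy), smul_right, hB.swap_zero (hproj y hy).2, mul_zero, sub_zero]
          have h7 : (t⁻¹ * h).1 b = b := by rw [mul_val, ← htb, inv_val']
          have h8 : (t⁻¹ * h).1 (x - (B b x / ν) • b) = x - (B b x / ν) • b := by
            rw [mul_val, hh _ h6]
            exact TS_fix (inv_mem htA) h6
          have h9 : x = (x - (B b x / ν) • b) + (B b x / ν) • b := by abel
          rw [h9, map_add, h8, map_smul, h7]
      have h10 : h = t * (t⁻¹ * h) := by group
      rw [h10]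
      exact mul_mem htA (TS_mono hA'lt.le key)
    · -- `A = ⟨b⟩`
      push Not at h2
      have hAb : ∀ y ∈ A, y = (B b y / ν) • b := by
        intro y hy
        by_contra hne
        refine h2 (y - (B b y / ν) • b) (A.sub_mem hy (A.smul_mem _ hbA)) (sub_ne_zero.2 hne) ?_
        rw [map_sub, smul_right, ← hν, div_mul_cancel₀ _ hb, sub_self]
      set l := B b (h.1 b) / ν with hl
      have hhb : h.1 b = l • b := hAb _ (hhA b hbA)
      have hhx : ∀ x, h.1 x = x + (((l - 1) / ν) * B b x) • b := by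
        intro x
        have h6 : ∀ y ∈ A, B y (x - (B b x / ν) • b) = 0 := by
          intro y hy
          rw [hAb y hy, smul_left, map_sub, smul_right, ← hν, div_mul_cancel₀ _ hb, sub_self, mul_zero]
        have h8 := hh _ h6
        rw [map_sub, map_smul, hhb] at h8
        have h9 : h.1 x = x - (B b x / ν) • b + (B b x / ν) • l • b := by
          rw [← h8]; abel
        rw [h9, smul_smul]
        have h10 : (((l - 1) / ν) * B b x) = (B b x / ν) * l - B b x / ν := by ring
        rw [h10, sub_smul]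
        abel
      have hdet : LinearMap.det (h.1 : V →ₗ[F] V) = l := by
        have h11 : (h.1 : V →ₗ[F] V) = LinearMap.transvection (((l - 1) / ν) • B b) b := by
          apply LinearMap.ext
          intro x
          rw [LinearMap.transvection.apply]
          exact hhx x
        rw [h11, LinearMap.transvection.det, LinearMap.smul_apply, ← hν, smul_eq_mul, div_mul_cancel₀ _ hb]
        ring
      have hl1 : l = 1 := by
        rw [← hdet, ← LinearEquiv.coe_det, h.2.1]
        rfl
      have h1 : h = 1 := by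
        apply Subtype.ext
        apply LinearEquiv.ext
        intro x
        rw [hhx, hl1, sub_self, zero_div, zero_mul, zero_smul, add_zero]
        rfl
      rw [h1]
      exact one_mem _

theorem TS_top (hq : ∃ s : F, σ s = s ∧ s ≠ 0 ∧ s ≠ 1) : TS B (⊤ : Submodule F V) = ⊤ := by
  rw [eq_top_iff]
  intro h _
  refine mem_TS hB hq _ ⊤ rfl (fun x _ hx => hB.eq_zero fun y => hx y trivial) h fun x hx => ?_
  have : x = 0 := hB.eq_zero fun y => hB.swap_zero (hx y trivial)
  rw [this, map_zero]

end Trans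

end Cfsg.Agent.H405.Gs
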