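import Cfsg.Agent.H405.Gs.Chain2
import Cfsg.Agent.H91.U.Std
import Cfsg.Agent.ClassicalGeometry.UnitGenTwo

/-!
# The standard unitary groups are generated by transvections (helper405), S4327

`TS_std_top` : `TS (sB hF n) ⊤ = ⊤` if `(n, q) ≠ (3, 2)`.
-/

set_option autoImplicit false
set_option linter.unusedSectionVars false

namespace Cfsg.Agent.H405.Gs

open Matrix Cfsg Module Cfsg.Agent.LieClassical.HermBasic Cfsg.Agent.LieClassical.HermSiegel
open Cfsg.Agent.TitsThree Cfsg.Agent.TitsThree.KSideU Cfsg.Agent.TitsThree.KSideUDesc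
open Cfsg.Agent.H91.U

variable {F : Type*} [Field F] [Fintype F] {q : ℕ}

theorem TS_std_top (hF : Fintype.card F = q ^ 2) {n : ℕ} (h32 : ¬ (n = 3 ∧ q = 2)) :
    TS (sB hF n) (⊤ : Submodule F (Fin n → F)) = ⊤ := by
  rw [eq_top_iff]
  intro g _
  obtain ⟨A, hA⟩ : g.1 ∈ IU F q n := by
    rw [← SIso_sB hF n]
    exact g.2
  let φ : SU n F q →* SIso (sB hF n) := (toLin F q n).codRestrict (SIso (sB hF n)) fun A => by
    rw [SIso_sB hF n]
    exact ⟨A, rfl⟩
  have hφ : φ A = g := Subtype.ext hA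
  rw [← hφ]
  have h1 : A ∈ ClassicalGeometry.UnitGen.T F n q := by
    rw [ClassicalGeometry.UnitGenTwo.T_eq_top hF h32]
    trivial
  have h2 : ClassicalGeometry.UnitGen.T F n q ≤ (TS (sB hF n) (⊤ : Submodule F (Fin n → F))).comap φ := by
    unfold ClassicalGeometry.UnitGen.T
    rw [Subgroup.closure_le]
    rintro A ⟨v, c, hv, hA⟩
    refine IsTv.mem (A := ⊤) (u := v) Submodule.mem_top ⟨by rw [sB_apply]; exact hv, c, fun x => ?_⟩
    change act A x = _
    rw [act_def]
    change ((A : Matrix.SpecialLinearGroup (Fin n) F) : Matrix (Fin n) (Fin n) F) *ᵥ x = _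
    rw [hA, unitaryTransvection, Matrix.add_mulVec, Matrix.one_mulVec, Matrix.smul_mulVec, Matrix.vecMulVec_mulVec,
      sB_apply]
    ext i
    simp only [Pi.add_apply, Pi.smul_apply, smul_eq_mul, hermForm, dotProduct, MulOpposite.smul_eq_mul_unop,
      MulOpposite.unop_op]
    congr 1
    have h3 : ∑ j, v j ^ q * x j = ∑ j, x j * v j ^ q := Finset.sum_congr rfl fun j _ => mul_comm _ _
    rw [h3]
    ring
  exact h2 h1

end Cfsg.Agent.H405.Gs
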